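import Cfsg.Agent.H274.EPO.PMinusTwo
import Cfsg.Agent.H284.EPO.Fam

/-!
# S3499, own characteristic, orthogonal socles: the glue (helper274)

**`ownPOmega_of_plus`** : `OwnPOmega` from the plus type over the field with two elements.
-/

set_option autoImplicit false

namespace Cfsg.Agent.H274.EPO

open Cfsg.Agent.H419.EP Cfsg.Agent.H59.EP
open scoped MatrixGroups

theorem ownPOmega_of_plus (hg : TwoGen.{0})
    (hp : ∀ {Q : Type} [Group Q] [Finite Q] {A : Subgroup Q} {Γ : Subgroup (MulAut Q)} {ι : Type} [Fintype ι]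
      [DecidableEq ι] {F : Type} [Field F] [Fintype F] {S P : Subgroup (GL ι F)}, Big A Γ S P →
      ∀ (K : Type) [Field K] [Fintype K] (d : ℕ), 4 ≤ d → Fintype.card K = 2 → ringChar F = ringChar K →
      Nonempty (socle P ≃* Cfsg.POmega K (Cfsg.quadFormPlus d K)) → False) : OwnPOmega :=
  Cfsg.Agent.H284.Own.ownPOmega_of hp fun b K _ _ d x y hd hK hc hxy e => own_pminus_two hg b K hK d hc x y hd hxy e

end Cfsg.Agent.H274.EPO
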