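import Cfsg.Agent.H274.EPO.OwnO
import Cfsg.Agent.H947.EPO.PPlus

/-!
# S3499, own characteristic, orthogonal socles (helper274)

**`ownPOmega`** : the target `OwnPOmega` (helper470/284: `|K| ≥ 3`; helper947, helper274: `|K| = 2`).
-/

set_option autoImplicit false

namespace Cfsg.Agent.H274.EPO

open Cfsg.Agent.H419.EP Cfsg.Agent.H59.EP

theorem ownPOmega (hg : TwoGen.{0}) : OwnPOmega :=
  ownPOmega_of_plus hg fun b K _ _ d hd hK hc e => Cfsg.Agent.H947.EPO.own_pplus_two hg b K hc hK d hd e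

end Cfsg.Agent.H274.EPO
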