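import Cfsg.Agent.H274.EPO.Arith
import Cfsg.Agent.H274.EPO.NoOmega
import Cfsg.Agent.H948.Ppd.Pminus

/-!
# S3499, own characteristic, minus orthogonal socles (helper274)

* `core_pminus` : `Core P`, `Soc P ≃ PΩ⁻_{2 l + 2}(K)`, `char K = char F`, dimension at least 13: `P = Ω(Q₁)` or the
  dimension is large (`Bnd`).
* **`own_pminus`** : with `|Q| ≤ |A| ^ 4` the socle of `A` (`Big A Γ S P`) is not `PΩ⁻_{2 d}(K)`, `char K = char F`.
-/

set_option autoImplicit false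
set_option linter.unusedSectionVars false

namespace Cfsg.Agent.H274.EPO

open CoxeterSystem Cfsg.Agent.ChevalleyStructure.CoxeterGeom Cfsg.Agent.Tits.Roots Cfsg.Agent.Tits.Core
  Cfsg.Agent.Nodes.Reps Cfsg.Agent.Nodes.BNOf Cfsg.Agent.Nodes.Bruhat Cfsg.Agent.Nodes.RGDLib
open Cfsg.Agent.Nodes Cfsg.Agent.Nodes.WittRoot Cfsg.Agent.Nodes.WittRGD Cfsg.Agent.Nodes.WittAll Cfsg.Agent.Nodes.WittInst
open Cfsg.Agent.Nodes.TypeC (isCartan)
open Cfsg.Agent.TitsThree.Siegel Cfsg.Agent.TitsThree.SiegelGen Cfsg.Agent.TitsThree.WittFrame Cfsg.Agent.TitsThree.FrameCN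
  Cfsg.Agent.TitsThree.WBridge Cfsg.Agent.TitsThree.KSideO Cfsg.Agent.TitsThree Cfsg.Agent.TitsThree.StdData
open Cfsg.Agent.LieClassical Cfsg.Agent.LieClassical.OrthCore Cfsg.Agent.LieClassical.OrthTrans
open Cfsg.Agent.LieClassical.OrthSimple Cfsg.Agent.LieClassical.OrthFinite Cfsg.Agent.LieClassical.OrthForms
open Cfsg.Agent.H915.LD Cfsg.Agent.H911 Cfsg.Agent.H905.Md Cfsg.Agent.H925.Nat Cfsg.Agent.Nodes.RGDLift
open Cfsg.Agent.H156.Ppd (Cov lrep exists_cov)
open Cfsg.Agent.Omega.CR Cfsg.Agent.Omega.FOne.Lift.Sd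
open Cfsg.Agent.H948.Ppd Cfsg.Agent.H948.Ppd.Minus
open Cfsg Cfsg.Geo QuadraticMap
open scoped MatrixGroups Matrix

universe u

section core

variable {ι : Type} [Fintype ι] [DecidableEq ι] {F : Type u} [Field F] [Finite F] {P : Subgroup (GL ι F)}
  {K : Type} [Field K] [Fintype K] (p : ℕ) [hp : Fact p.Prime] [hFp : CharP F p] [hKp : CharP K p]
include hp hFp hKp

/-- **`PΩ⁻_{2 l + 2}(K)` in its own characteristic.** -/
theorem core_pminus (hC : Core P) (h13 : 13 ≤ Fintype.card ι) {l : ℕ} (hl3 : 3 ≤ l) (a b : K)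
    (hab : ∀ z₁ z₂ : K, z₁ ^ 2 + a * z₁ * z₂ + b * z₂ ^ 2 = 0 → z₁ = 0 ∧ z₂ = 0)
    (e₁ : Soc P ≃* POmega K (quadFormMinus l K a b)) :
    (∃ Q₁ : (ι → F) → F, IsNondegenerateQuadraticForm Q₁ ∧ P = omegaGL Q₁) ∨
      ∃ j, Nat.card F ^ j = Nat.card K ^ 2 ∧ Bnd (Fintype.card ι) l j := by
  have hG := good_minus (m := l) hab (by omega)
  have hA := ambT_minus hab p (by omega) hG
  have hp0 := pc_ne (m := l) hab
  have e' := e₁
  rw [← coe_minusForm] at e'
  have hWf : Finite (CoxeterMatrix.B l).Group := TypeC.finite_W (CoxeterMatrix.B l).toCoxeterSystem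
  have hperf : commutator ↥(MM hab hG).I = ⊤ := H911.Five.commutator_top hG.E_perfect
  obtain ⟨Y, _, _, f, φ, n₁, C⟩ := exists_covB hC hA hp0 (by omega) hperf e'
  have hT' := torus_comm_minus hab hG (by omega) hA
  obtain ⟨hT, hpow⟩ := lift_comm_pow C hp0 hT' (N₀ := Nat.card K ^ 2) fun i => nodes hab hG hA i
  -- the fields
  obtain ⟨f₀, -, hf₀⟩ := FiniteField.card K p
  rw [← Nat.card_eq_fintype_card] at hf₀
  have := Fintype.ofFinite F
  obtain ⟨a₀, -, ha₀⟩ := FiniteField.card F p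
  rw [← Nat.card_eq_fintype_card] at ha₀
  obtain ⟨j, hj, hjK⟩ := C.exists_j hC hT (a := (f₀ : ℕ) * 2) (Nat.mul_ne_zero f₀.ne_zero two_ne_zero)
    (by rw [pow_mul, ← hf₀]; exact hpow)
  rw [pow_mul, ← hf₀] at hjK
  have haj : (a₀ : ℕ) * j = f₀ * 2 := by
    have h1 : p ^ ((a₀ : ℕ) * j) = p ^ ((f₀ : ℕ) * 2) := by
      rw [pow_mul, ← ha₀, hjK, hf₀, ← pow_mul]
    exact Nat.pow_right_injective hp.out.two_le h1
  -- the last node
  have hlast : ∀ i : Fin l, (i : ℕ) + 1 = l → ∃ (E : Type) (_ : Field E) (_ : Finite E) (_ : CharP E p)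
      (σ : SL(2, E) →* Y), Nat.card E = Nat.card F ^ j ∧
        Nd ((TB (MM hab hG)).comap f) (fun x => lft p f (XB (MM hab hG) x)) i σ := by
    intro i hi
    obtain ⟨E, i1, i2, i3, σ', h1, -, N'⟩ := node_last hab hG hA hi
    obtain ⟨σ, -, N⟩ := lift_nd C hp0 N'
    exact ⟨E, i1, i2, i3, σ, by rw [h1, hjK], N⟩
  have hnl : ∀ i : Fin l, (i : ℕ) + 1 = l → i ∉ JB (MM hab hG) p f φ → Bnd (Fintype.card ι) l j := by
    intro i hi hiJ
    obtain ⟨E, i1, i2, i3, σ, h1, N⟩ := hlast i hi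
    obtain ⟨ε, hε, h3⟩ := bound_last hC C hT hi hiJ
    exact bnd_last hl3 hj h13 (edge_pow_B hC C hT hiJ N h1) hε h3
  have hlong : ∀ i : Fin l, (i : ℕ) + 1 < l → ∃ σ : SL(2, K) →* Y,
        Nd ((TB (MM hab hG)).comap f) (fun x => lft p f (XB (MM hab hG) x)) i σ := by
    intro i hi
    obtain ⟨σ', -, N'⟩ := node_long hab hG hA hi
    obtain ⟨σ, -, N⟩ := lift_nd C hp0 N'
    exact ⟨σ, N⟩
  -- the identification
  have hid : (∀ i : Fin l, 1 ≤ (i : ℕ) → i ∈ JB (MM hab hG) p f φ) →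
      dB (MM hab hG) p f φ ⟨0, by omega⟩ ≤ 2 →
      ∃ Q₁ : (ι → F) → F, IsNondegenerateQuadraticForm Q₁ ∧ P = omegaGL Q₁ := by
    intro hJ hd2
    have hspan : Submodule.span K (Set.range (mt (MM hab hG).I)) = ⊤ :=
      span_E hG (by rw [Fintype.card_sum, Fintype.card_sum, Fintype.card_fin, Fintype.card_fin]; omega)
    obtain ⟨τ, θ, hθ⟩ := identify_B hC hA hp0 (by omega) hspan C hT (o := ⟨0, by omega⟩) rfl
      (fun i hi => by
        by_contra h0
        refine hi (hJ i ?_)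
        by_contra h1
        exact h0 (Fin.ext (by simp only; omega))) hd2
    have hcj : CjOf (omegaGL (quadFormMinus l F (τ a) (τ b))) P := by
      refine cjOf_of (mem_omega_iff'' hG) (map_omega_glm τ fun v => ?_) hθ
      rw [coe_minusForm]
      exact quadFormMinus_map τ a b v
    have hab' : ∀ z₁ z₂ : F, z₁ ^ 2 + τ a * z₁ * z₂ + τ b * z₂ ^ 2 = 0 → z₁ = 0 ∧ z₂ = 0 := by
      intro z₁ z₂ hz
      obtain ⟨z₁, rfl⟩ := τ.surjective z₁
      obtain ⟨z₂, rfl⟩ := τ.surjective z₂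
      rw [← map_pow, ← map_pow, ← map_mul, ← map_mul, ← map_mul, ← map_add, ← map_add] at hz
      obtain ⟨h1, h2⟩ := hab _ _ ((map_eq_zero τ).1 hz)
      rw [h1, h2, map_zero]
      exact ⟨rfl, rfl⟩
    have hnd : IsNondegenerateQuadraticForm (quadFormMinus l F (τ a) (τ b)) := by
      rw [← coe_minusForm]
      exact H925.isND_of_nondeg (nondeg_minusForm l F (τ a) (τ b) hab')
    obtain ⟨Q₁, hQ₁, hP, -⟩ := hcj.omega_form hnd
    exact ⟨Q₁, hQ₁, hP⟩
  -- the first node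
  have hfirst : (∀ i : Fin l, 1 ≤ (i : ℕ) → i ∈ JB (MM hab hG) p f φ) →
      (⟨0, by omega⟩ : Fin l) ∉ JB (MM hab hG) p f φ := by
    intro hJ
    obtain ⟨i, hi⟩ := exists_node hC C hT
    have h3 : i = ⟨0, by omega⟩ := by
      by_contra h0
      refine hi (hJ i ?_)
      by_contra h1
      exact h0 (Fin.ext (by simp only; omega))
    rwa [← h3]
  -- one node `≥ 1` outside `J`
  by_cases hJ : ∀ i : Fin l, 1 ≤ (i : ℕ) → i ∈ JB (MM hab hG) p f φ
  swap
  · right
    refine ⟨j, hjK, ?_⟩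
    push Not at hJ
    obtain ⟨i, hi1, hiJ⟩ := hJ
    rcases (show (i : ℕ) + 1 = l ∨ (i : ℕ) + 1 < l by omega) with hi | hi
    · exact hnl i hi hiJ
    obtain ⟨σ, N⟩ := hlong i hi
    rcases Nat.even_or_odd' j with ⟨j', hj' | hj'⟩
    · -- `|K| = |F| ^ j'`
      subst hj'
      have hj1 : 1 ≤ j' := by omega
      have hfa : (f₀ : ℕ) = a₀ * j' := by
        have h1 : (a₀ : ℕ) * (2 * j') = a₀ * j' * 2 := by ring
        omega
      have hKF : Nat.card K = Nat.card F ^ j' := by rw [hf₀, ha₀, ← pow_mul, hfa]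
      have hedge := edge_pow_B hC C hT hiJ N hKF
      rcases Nat.lt_or_ge 3 l with hl4 | hl3'
      · exact bnd_mid hl4 hj1 hedge (by omega) hi (bound_all hC C hT hiJ)
      · obtain rfl : l = 3 := by omega
        obtain rfl : i = 1 := by
          apply Fin.ext
          change (i : ℕ) = 1
          omega
        rcases Nat.lt_or_ge 1 j' with hj2 | hj2
        · obtain ⟨ε, hε, h3⟩ := bound_mid hC C hT hiJ
          exact bnd_three hj2 hedge hε h3
        · obtain rfl : j' = 1 := by omega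
          obtain ⟨E, i1, i2, i3, σ, h1, N⟩ := hlast 2 rfl
          exact bnd_three_one (bound_levi hC C hT hiJ N ha₀ h1)
    · -- `|K| ^ 2 = |F| ^ j`, `j` odd
      obtain ⟨a₁, ha₁⟩ : ∃ a₁, (a₀ : ℕ) = 2 * a₁ := by
        have h1 : Even ((a₀ : ℕ) * j) := by
          rw [haj, mul_comm]
          exact even_two_mul _
        rcases Nat.even_mul.1 h1 with ⟨x, hx⟩ | ⟨x, hx⟩
        · exact ⟨x, by omega⟩
        · omega
      have hf₁ : (f₀ : ℕ) = a₁ * j := by
        have h1 : 2 * (a₁ * j) = f₀ * 2 := by rw [← haj, ha₁]; ring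
        omega
      have hgcd : j * Nat.gcd a₀ f₀ = f₀ := by
        have h1 : Nat.gcd 2 j = 1 := by
          rw [hj']
          exact (Nat.coprime_two_left).2 ⟨j', rfl⟩
        rw [ha₁, hf₁, mul_comm 2 a₁, Nat.gcd_mul_left, h1, mul_one, mul_comm]
      have hedge := edge_pow_B' hC C hT hiJ N ha₀ hf₀ hgcd
      rcases Nat.lt_or_ge 3 l with hl4 | hl3'
      · exact (bnd_mid hl4 hj hedge (by omega) hi (bound_all hC C hT hiJ)).mono (by omega)
      · obtain rfl : l = 3 := by omega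
        obtain rfl : i = 1 := by
          apply Fin.ext
          change (i : ℕ) = 1
          omega
        rcases Nat.lt_or_ge 1 j with hj2 | hj2
        · obtain ⟨ε, hε, h3⟩ := bound_mid hC C hT hiJ
          exact (bnd_three hj2 hedge hε h3).mono (by omega)
        · obtain rfl : j = 1 := by omega
          exact bnd_three_half h13
  -- only the first node
  have ho := hfirst hJ
  obtain ⟨ε, hε, h3⟩ := bound_first hC C hT (by omega) rfl ho
  obtain ⟨σ, N⟩ := hlong ⟨0, by omega⟩ (by simp only; omega)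
  rcases Nat.even_or_odd' j with ⟨j', hj' | hj'⟩
  · subst hj'
    have hj1 : 1 ≤ j' := by omega
    have hfa : (f₀ : ℕ) = a₀ * j' := by
      have h1 : (a₀ : ℕ) * (2 * j') = a₀ * j' * 2 := by ring
      omega
    have hKF : Nat.card K = Nat.card F ^ j' := by rw [hf₀, ha₀, ← pow_mul, hfa]
    have hedge := edge_pow_B hC C hT ho N hKF
    rcases bnd_first hl3 hj1 hedge hε h3 with ⟨-, hd2⟩ | hb
    · exact Or.inl (hid hJ hd2)
    · exact Or.inr ⟨_, hjK, hb⟩
  · obtain ⟨a₁, ha₁⟩ : ∃ a₁, (a₀ : ℕ) = 2 * a₁ := by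
      have h1 : Even ((a₀ : ℕ) * j) := by
        rw [haj, mul_comm]
        exact even_two_mul _
      rcases Nat.even_mul.1 h1 with ⟨x, hx⟩ | ⟨x, hx⟩
      · exact ⟨x, by omega⟩
      · omega
    have hf₁ : (f₀ : ℕ) = a₁ * j := by
      have h1 : 2 * (a₁ * j) = f₀ * 2 := by rw [← haj, ha₁]; ring
      omega
    have hgcd : j * Nat.gcd a₀ f₀ = f₀ := by
      have h1 : Nat.gcd 2 j = 1 := by
        rw [hj']
        exact (Nat.coprime_two_left).2 ⟨j', rfl⟩
      rw [ha₁, hf₁, mul_comm 2 a₁, Nat.gcd_mul_left, h1, mul_one, mul_comm]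
    have hedge := edge_pow_B' hC C hT ho N ha₀ hf₀ hgcd
    rcases bnd_first hl3 hj hedge hε h3 with ⟨-, hd2⟩ | hb
    · exact Or.inl (hid hJ hd2)
    · exact Or.inr ⟨_, hjK, hb.mono (by omega)⟩

end core

section final

open Cfsg.Agent.H419.EP

variable {Q : Type} [Group Q] [Finite Q] {A : Subgroup Q} {Γ : Subgroup (MulAut Q)} {ι : Type} [Fintype ι]
    [DecidableEq ι] {F : Type} [Field F] [Fintype F] {S P : Subgroup (GL ι F)}

/-- **S3499-VII13-PMinus.** -/
theorem own_pminus (x : Big A Γ S P) (hUB : Nat.card Q ≤ Nat.card A ^ 4) (K : Type) [Field K] [Fintype K] (d : ℕ)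
    (hc : ringChar F = ringChar K) (a b : K) (hd : 4 ≤ d)
    (hab : ∀ z₁ z₂ : K, z₁ ^ 2 + a * z₁ * z₂ + b * z₂ ^ 2 = 0 → z₁ = 0 ∧ z₂ = 0)
    (hS : Nonempty (socle P ≃* Cfsg.POmega K (Cfsg.quadFormMinus (d - 1) K a b))) : False := by
  obtain ⟨e⟩ := hS
  have hC : Core P := core_of_residual x.core
  have hK : CharP K (ringChar F) := by
    rw [hc]
    exact ringChar.charP K
  have hF : CharP F (ringChar F) := ringChar.charP F
  have hp : Fact (ringChar F).Prime := ⟨CharP.char_is_prime F _⟩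
  rcases core_pminus (ringChar F) hC x.thirteen (l := d - 1) (by omega) a b hab e with ⟨Q₁, h1, h2⟩ | ⟨j, hj, hb⟩
  · exact no_omega x h1 h2
  · have hfin : Finite (POmega K (quadFormMinus (d - 1) K a b)) := inferInstance
    have h1 := (x.hasSoc' e).card_le
    rw [Nat.card_eq_fintype_card, Nat.card_eq_fintype_card] at hj
    exact count x.two_le hj x.ord hUB h1 (aut_minus (by omega) hab) hb

end final

end Cfsg.Agent.H274.EPO
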