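import Cfsg.Agent.H274.EPO.PMinusO
import Cfsg.Agent.H12.EP.InstTwo

/-!
# S3499, own characteristic, minus orthogonal socles over the field with two elements (helper274)

* `core_pminus_gen` : the proof of `core_pminus` with the raw dimension bounds.
* **`own_pminus_two`** : the socle of `A` (`Big A Γ S P`) is not `PΩ⁻_{2 d}(2)` in characteristic 2 (`ub_minus_two`).
* **`own_pminus_all`** : with the chain theorem for `|K| ≥ 3`.
-/

set_option autoImplicit false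
set_option linter.unusedSectionVars false

namespace Cfsg.Agent.H274.EPO

open CoxeterSystem Cfsg.Agent.ChevalleyStructure.CoxeterGeom Cfsg.Agent.Tits.Roots Cfsg.Agent.Tits.Core
  Cfsg.Agent.Nodes.Reps Cfsg.Agent.Nodes.BNOf Cfsg.Agent.Nodes.Bruhat Cfsg.Agent.Nodes.RGDLib
open Cfsg.Agent.Nodes Cfsg.Agent.Nodes.WittRoot Cfsg.Agent.Nodes.WittRGD Cfsg.Agent.Nodes.WittAll Cfsg.Agent.Nodes.WittInst
open Cfsg.Agent.Nodes.TypeC (isCartan)
open Cfsg.Agent.TitsThree.Siegel Cfsg.Agent.TitsThree.SiegelGen Cfsg.Agent.TitsThree.WittFrame Cfsg.Agent.TitsThree.FrameCN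
  Cfsg.Agent.TitsThree.WBridge Cfsg.Agent.TitsThree.KSideO Cfsg.Agent.TitsThree Cfsg.Agent.TitsThree.StdData
open Cfsg.Agent.LieClassical Cfsg.Agent.LieClassical.OrthCore Cfsg.Agent.LieClassical.OrthTrans
open Cfsg.Agent.LieClassical.OrthSimple Cfsg.Agent.LieClassical.OrthFinite Cfsg.Agent.LieClassical.OrthForms
open Cfsg.Agent.H915.LD Cfsg.Agent.H911 Cfsg.Agent.H905.Md Cfsg.Agent.H925.Nat Cfsg.Agent.Nodes.RGDLift
open Cfsg.Agent.H156.Ppd (Cov lrep exists_cov)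
open Cfsg.Agent.Omega.CR Cfsg.Agent.Omega.FOne.Lift.Sd
open Cfsg.Agent.H948.Ppd Cfsg.Agent.H948.Ppd.Minus
open Cfsg Cfsg.Geo QuadraticMap
open scoped MatrixGroups Matrix

universe u

/-! ### numbers -/

/-- the raw dimension bounds -/
structure Rules (N l : ℕ) (R : ℕ → Prop) : Prop where
  last : ∀ {j d ε : ℕ}, 1 ≤ j → (∃ m, 2 ≤ m ∧ d = m ^ j) → d ≤ ε + 2 → 2 ^ l + l * 2 ^ (l - 1) * ε ≤ N → R j
  first : ∀ {J d ε j : ℕ}, 1 ≤ J → (∃ m, 2 ≤ m ∧ d = m ^ J) → d ≤ ε + 2 → 2 * l + 2 * l * (l - 1) * ε ≤ N →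
    j ≤ 2 * J → (J = 1 ∧ d ≤ 2) ∨ R j
  mid : ∀ {J d k j : ℕ}, 4 ≤ l → 1 ≤ J → (∃ m, 2 ≤ m ∧ d = m ^ J) → 2 ≤ k → k < l →
    (l.choose k * 2 ^ k) * d ≤ 2 * N → j ≤ 2 * J → R j
  three : ∀ {J d ε j : ℕ}, l = 3 → 2 ≤ J → (∃ m, 2 ≤ m ∧ d = m ^ J) → d ≤ ε + 2 → 12 + 24 * ε ≤ N →
    j ≤ 2 * J → R j
  three_one : l = 3 → 20 ≤ N → R (2 * 1)
  three_half : l = 3 → R 1

/-- the numerical contradiction for `|K| = 2`, `|F| ^ j = 4` -/
def R2 (N l j : ℕ) : Prop :=
  j ≤ 2 → ∃ c, 1 ≤ c ∧ 2 * (l + 1) ^ 2 + (l + 1) ≤ 5 * 60 ^ c ∧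
    j * ((4 + c) * (2 * l ^ 2 + 3 * l + 3)) < N * (N - 1) + 6 * j

theorem sq_le_sixty {l : ℕ} (hl : 3 ≤ l) : 2 * (l + 1) ^ 2 + (l + 1) ≤ 5 * 60 ^ l := by
  induction l, hl using Nat.le_induction with
  | base => norm_num
  | succ l hl ih =>
    calc 2 * (l + 1 + 1) ^ 2 + (l + 1 + 1) ≤ 60 * (2 * (l + 1) ^ 2 + (l + 1)) := by nlinarith
      _ ≤ 60 * (5 * 60 ^ l) := Nat.mul_le_mul_left _ ih
      _ = 5 * 60 ^ (l + 1) := by ring

theorem mul_pred_le {L N D : ℕ} (h : L ≤ N) (hT : L * L = L + D) : D ≤ N * (N - 1) := by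
  have h1 : L * (L - 1) ≤ N * (N - 1) := Nat.mul_le_mul h (by omega)
  have h2 : L * (L - 1) + L = L * L := by
    rcases Nat.eq_zero_or_pos L with rfl | hL
    · rfl
    · obtain ⟨M, rfl⟩ : ∃ M, L = M + 1 := ⟨L - 1, by omega⟩
      simp only [Nat.add_sub_cancel]
      ring
  omega

/-- large dimensions -/
theorem r2_big {N l j : ℕ} (hl : 4 ≤ l) (h : 2 * l * (l - 1) ≤ N) : R2 N l j := by
  intro hj
  obtain ⟨t, rfl⟩ : ∃ t, l = t + 4 := ⟨l - 4, by omega⟩
  have e0 : t + 4 - 1 = t + 3 := by omega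
  rw [e0] at h
  rcases (show t = 0 ∨ t = 1 ∨ 2 ≤ t by omega) with rfl | rfl | ht
  · refine ⟨1, le_rfl, by norm_num, ?_⟩
    have h1 := mul_pred_le (L := 24) (D := 552) h (by norm_num)
    have h2 : j * ((4 + 1) * (2 * (0 + 4) ^ 2 + 3 * (0 + 4) + 3)) ≤ 2 * ((4 + 1) * (2 * (0 + 4) ^ 2 + 3 * (0 + 4) + 3)) :=
      Nat.mul_le_mul_right _ hj
    norm_num at h2 ⊢
    omega
  · refine ⟨1, le_rfl, by norm_num, ?_⟩
    have h1 := mul_pred_le (L := 40) (D := 1560) h (by norm_num)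
    have h2 : j * ((4 + 1) * (2 * (1 + 4) ^ 2 + 3 * (1 + 4) + 3)) ≤ 2 * ((4 + 1) * (2 * (1 + 4) ^ 2 + 3 * (1 + 4) + 3)) :=
      Nat.mul_le_mul_right _ hj
    norm_num at h2 ⊢
    omega
  · obtain ⟨x, rfl⟩ : ∃ x, t = x + 2 := ⟨t - 2, by omega⟩
    refine ⟨x + 2 + 4, by omega, sq_le_sixty (by omega), ?_⟩
    have h1 := mul_pred_le (L := 2 * (x + 2 + 4) * (x + 2 + 3))
      (D := 4 * x ^ 4 + 88 * x ^ 3 + 722 * x ^ 2 + 2618 * x + 3540) h (by ring)
    have h2 : j * ((4 + (x + 2 + 4)) * (2 * (x + 2 + 4) ^ 2 + 3 * (x + 2 + 4) + 3)) ≤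
        2 * ((4 + (x + 2 + 4)) * (2 * (x + 2 + 4) ^ 2 + 3 * (x + 2 + 4) + 3)) := Nat.mul_le_mul_right _ hj
    have h3 : 2 * ((4 + (x + 2 + 4)) * (2 * (x + 2 + 4) ^ 2 + 3 * (x + 2 + 4) + 3)) =
        4 * x ^ 3 + 94 * x ^ 2 + 726 * x + 1860 := by ring
    rw [h3] at h2
    have h4 : 4 * x ^ 3 + 94 * x ^ 2 + 726 * x + 1860 < 4 * x ^ 4 + 88 * x ^ 3 + 722 * x ^ 2 + 2618 * x + 3540 := by
      nlinarith [Nat.zero_le (x ^ 4), Nat.zero_le (x ^ 3), Nat.zero_le (x ^ 2)]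
    omega

theorem r2_three {N j : ℕ} (h : 18 ≤ N) : R2 N 3 j := by
  intro hj
  refine ⟨1, le_rfl, by norm_num, ?_⟩
  have h1 := mul_pred_le (L := 18) (D := 306) h (by norm_num)
  norm_num
  omega

theorem r2_three_one {N : ℕ} (h : 13 ≤ N) : R2 N 3 1 := by
  intro _
  refine ⟨1, le_rfl, by norm_num, ?_⟩
  have h1 := mul_pred_le (L := 13) (D := 156) h (by norm_num)
  norm_num
  omega

theorem choose_pow {l k : ℕ} (h1 : 2 ≤ k) (h2 : k < l) : 2 * l * (l - 1) ≤ l.choose k * 2 ^ k := by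
  obtain ⟨m, rfl⟩ : ∃ m, l = m + 2 := ⟨l - 2, by omega⟩
  obtain ⟨i, rfl⟩ : ∃ i, k = i + 2 := ⟨k - 2, by omega⟩
  have e1 : m + 2 - 1 = m + 1 := by omega
  rw [e1]
  -- `choose (m+2) (i+2) * ((i+2) * (i+1)) = (m+2) * (m+1) * choose m i`
  have h3 : (m + 2).choose (i + 2) * (i + 2) = (m + 2) * (m + 1).choose (i + 1) := by
    rw [Nat.add_one_mul_choose_eq (m + 1) (i + 1)]
  have h4 : (m + 1).choose (i + 1) * (i + 1) = (m + 1) * m.choose i := by
    rw [Nat.add_one_mul_choose_eq m i]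
  rcases Nat.eq_zero_or_pos i with rfl | hi
  · rw [Nat.choose_zero_right, mul_one, zero_add, mul_one] at h4
    rw [zero_add] at h3 ⊢
    rw [h4] at h3
    have h5 : (m + 2).choose 2 * 2 ^ 2 = 2 * ((m + 2).choose 2 * 2) := by ring
    rw [h5, h3]
    exact le_of_eq (by ring)
  · have h5 := H948.Ppd.TypeB.le_choose (n := m) (k := i) hi (by omega)
    have h6 : i + 1 ≤ m := by omega
    have h7 : (m + 1) * (i + 1) ≤ (m + 1).choose (i + 1) * (i + 1) := by
      rw [h4]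
      exact Nat.mul_le_mul_left _ (h6.trans h5)
    have h8 : m + 1 ≤ (m + 1).choose (i + 1) := Nat.le_of_mul_le_mul_right h7 (by omega)
    have h9 : (m + 2) * (m + 1) ≤ (m + 2).choose (i + 2) * (i + 2) := by
      rw [h3]
      exact Nat.mul_le_mul_left _ h8
    have h10 : 2 * (i + 2) ≤ 2 ^ (i + 2) := two_mul_le_pow (by omega)
    calc 2 * (m + 2) * (m + 1) = 2 * ((m + 2) * (m + 1)) := by ring
      _ ≤ 2 * ((m + 2).choose (i + 2) * (i + 2)) := Nat.mul_le_mul_left _ h9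
      _ = (m + 2).choose (i + 2) * (2 * (i + 2)) := by ring
      _ ≤ _ := Nat.mul_le_mul_left _ h10

theorem quad_le_pow {l : ℕ} (hl : 6 ≤ l) : 2 * l * (l - 1) ≤ 2 ^ l := by
  obtain ⟨t, rfl⟩ : ∃ t, l = t + 6 := ⟨l - 6, by omega⟩
  have e0 : t + 6 - 1 = t + 5 := by omega
  rw [e0]
  clear hl e0
  induction t with
  | zero => norm_num
  | succ t ih =>
    have : 2 ^ (t + 1 + 6) = 2 * 2 ^ (t + 6) := by rw [← pow_succ']
    rw [this]
    nlinarith

/-- **the rules hold** -/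
theorem rules_two {N l : ℕ} (hl : 3 ≤ l) (hN : 13 ≤ N) : Rules N l (R2 N l) where
  last {j d ε} hj hd hε h := by
    have h0 := two_le_of hd
    intro hj2
    have hl4 : 2 ^ l = 2 * 2 ^ (l - 1) := by
      rw [← pow_succ']
      congr 1
      omega
    rcases (show j = 1 ∨ j = 2 by omega) with rfl | rfl
    · rcases (show l = 3 ∨ l = 4 ∨ l = 5 ∨ 6 ≤ l by omega) with rfl | rfl | rfl | hl6
      · exact r2_three_one hN (by norm_num)
      · refine ⟨1, le_rfl, by norm_num, ?_⟩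
        have h1 := mul_pred_le (N := N) (L := 16) (D := 240) (by omega) (by norm_num)
        norm_num
        omega
      · refine ⟨1, le_rfl, by norm_num, ?_⟩
        have h1 := mul_pred_le (N := N) (L := 32) (D := 992) (by omega) (by norm_num)
        norm_num
        omega
      · exact r2_big (by omega) ((quad_le_pow hl6).trans (by omega)) (by norm_num)
    · have h1 : 2 ≤ ε := by omega
      have h2 : l * 2 ^ (l - 1) * 2 ≤ l * 2 ^ (l - 1) * ε := Nat.mul_le_mul_left _ h1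
      have h3 : l ≤ 2 ^ (l - 1) := by
        have := Nat.lt_two_pow_self (n := l - 1)
        omega
      have h4 : l * l ≤ l * 2 ^ (l - 1) := Nat.mul_le_mul_left _ h3
      rcases (show l = 3 ∨ 4 ≤ l by omega) with rfl | hl4
      · exact r2_three (by omega) (by norm_num)
      · refine r2_big hl4 ?_ (by norm_num)
        have h5 : 2 * l * (l - 1) ≤ 2 * l * l := Nat.mul_le_mul_left _ (by omega)
        have h6 : 2 * l * l = 2 * (l * l) := by ring
        omega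
  first {J d ε j} hJ hd hε h hj := by
    have h0 := two_le_of hd
    rcases (show (J = 1 ∧ d ≤ 2) ∨ 3 ≤ d by
      rcases Nat.lt_or_ge 1 J with h1 | h1
      · right
        have : 2 ^ 2 ≤ 2 ^ J := Nat.pow_le_pow_right (by norm_num) h1
        omega
      · omega) with h1 | h1
    · exact Or.inl h1
    · right
      have h2 : 2 * l * (l - 1) * 1 ≤ 2 * l * (l - 1) * ε := Nat.mul_le_mul_left _ (by omega)
      rcases (show l = 3 ∨ 4 ≤ l by omega) with rfl | hl4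
      · exact r2_three (by omega)
      · exact r2_big hl4 (by omega)
  mid {J d k j} hl4 hJ hd hk hkl h hj := by
    have h0 := two_le_of hd
    have h1 : 2 ^ 1 ≤ 2 ^ J := Nat.pow_le_pow_right (by norm_num) hJ
    have h2 : (l.choose k * 2 ^ k) * 2 ≤ (l.choose k * 2 ^ k) * d := Nat.mul_le_mul_left _ (by omega)
    have h3 := choose_pow hk hkl
    exact r2_big hl4 (by omega)
  three {J d ε j} hl3 hJ hd hε h hj := by
    have h0 := two_le_of hd
    have h1 : 2 ^ 2 ≤ 2 ^ J := Nat.pow_le_pow_right (by norm_num) hJ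
    subst hl3
    exact r2_three (by omega)
  three_one hl3 h := by
    subst hl3
    exact r2_three (by omega)
  three_half hl3 := by
    subst hl3
    exact r2_three_one hN


section core

variable {ι : Type} [Fintype ι] [DecidableEq ι] {F : Type u} [Field F] [Finite F] {P : Subgroup (GL ι F)}
  {K : Type} [Field K] [Fintype K] (p : ℕ) [hp : Fact p.Prime] [hFp : CharP F p] [hKp : CharP K p]
include hp hFp hKp

/-- **`PΩ⁻_{2 l + 2}(K)` in its own characteristic**, with the raw dimension bounds -/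
theorem core_pminus_gen (hC : Core P) {l : ℕ} (hl3 : 3 ≤ l) (a b : K)
    (hab : ∀ z₁ z₂ : K, z₁ ^ 2 + a * z₁ * z₂ + b * z₂ ^ 2 = 0 → z₁ = 0 ∧ z₂ = 0)
    (e₁ : Soc P ≃* POmega K (quadFormMinus l K a b)) (R : ℕ → Prop) (hR : Rules (Fintype.card ι) l R) :
    (∃ Q₁ : (ι → F) → F, IsNondegenerateQuadraticForm Q₁ ∧ P = omegaGL Q₁) ∨
      ∃ j, Nat.card F ^ j = Nat.card K ^ 2 ∧ R j := by
  have hG := good_minus (m := l) hab (by omega)
  have hA := ambT_minus hab p (by omega) hG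
  have hp0 := pc_ne (m := l) hab
  have e' := e₁
  rw [← coe_minusForm] at e'
  have hWf : Finite (CoxeterMatrix.B l).Group := TypeC.finite_W (CoxeterMatrix.B l).toCoxeterSystem
  have hperf : commutator ↥(MM hab hG).I = ⊤ := H911.Five.commutator_top hG.E_perfect
  obtain ⟨Y, _, _, f, φ, n₁, C⟩ := exists_covB hC hA hp0 (by omega) hperf e'
  have hT' := torus_comm_minus hab hG (by omega) hA
  obtain ⟨hT, hpow⟩ := lift_comm_pow C hp0 hT' (N₀ := Nat.card K ^ 2) fun i => nodes hab hG hA i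
  -- the fields
  obtain ⟨f₀, -, hf₀⟩ := FiniteField.card K p
  rw [← Nat.card_eq_fintype_card] at hf₀
  have := Fintype.ofFinite F
  obtain ⟨a₀, -, ha₀⟩ := FiniteField.card F p
  rw [← Nat.card_eq_fintype_card] at ha₀
  obtain ⟨j, hj, hjK⟩ := C.exists_j hC hT (a := (f₀ : ℕ) * 2) (Nat.mul_ne_zero f₀.ne_zero two_ne_zero)
    (by rw [pow_mul, ← hf₀]; exact hpow)
  rw [pow_mul, ← hf₀] at hjK
  have haj : (a₀ : ℕ) * j = f₀ * 2 := by
    have h1 : p ^ ((a₀ : ℕ) * j) = p ^ ((f₀ : ℕ) * 2) := by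
      rw [pow_mul, ← ha₀, hjK, hf₀, ← pow_mul]
    exact Nat.pow_right_injective hp.out.two_le h1
  -- the last node
  have hlast : ∀ i : Fin l, (i : ℕ) + 1 = l → ∃ (E : Type) (_ : Field E) (_ : Finite E) (_ : CharP E p)
      (σ : SL(2, E) →* Y), Nat.card E = Nat.card F ^ j ∧
        Nd ((TB (MM hab hG)).comap f) (fun x => lft p f (XB (MM hab hG) x)) i σ := by
    intro i hi
    obtain ⟨E, i1, i2, i3, σ', h1, -, N'⟩ := node_last hab hG hA hi
    obtain ⟨σ, -, N⟩ := lift_nd C hp0 N'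
    exact ⟨E, i1, i2, i3, σ, by rw [h1, hjK], N⟩
  have hnl : ∀ i : Fin l, (i : ℕ) + 1 = l → i ∉ JB (MM hab hG) p f φ → R j := by
    intro i hi hiJ
    obtain ⟨E, i1, i2, i3, σ, h1, N⟩ := hlast i hi
    obtain ⟨ε, hε, h3⟩ := bound_last hC C hT hi hiJ
    exact hR.last hj (edge_pow_B hC C hT hiJ N h1) hε h3
  have hlong : ∀ i : Fin l, (i : ℕ) + 1 < l → ∃ σ : SL(2, K) →* Y,
        Nd ((TB (MM hab hG)).comap f) (fun x => lft p f (XB (MM hab hG) x)) i σ := by
    intro i hi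
    obtain ⟨σ', -, N'⟩ := node_long hab hG hA hi
    obtain ⟨σ, -, N⟩ := lift_nd C hp0 N'
    exact ⟨σ, N⟩
  -- the identification
  have hid : (∀ i : Fin l, 1 ≤ (i : ℕ) → i ∈ JB (MM hab hG) p f φ) →
      dB (MM hab hG) p f φ ⟨0, by omega⟩ ≤ 2 →
      ∃ Q₁ : (ι → F) → F, IsNondegenerateQuadraticForm Q₁ ∧ P = omegaGL Q₁ := by
    intro hJ hd2
    have hspan : Submodule.span K (Set.range (mt (MM hab hG).I)) = ⊤ :=
      span_E hG (by rw [Fintype.card_sum, Fintype.card_sum, Fintype.card_fin, Fintype.card_fin]; omega)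
    obtain ⟨τ, θ, hθ⟩ := identify_B hC hA hp0 (by omega) hspan C hT (o := ⟨0, by omega⟩) rfl
      (fun i hi => by
        by_contra h0
        refine hi (hJ i ?_)
        by_contra h1
        exact h0 (Fin.ext (by simp only; omega))) hd2
    have hcj : CjOf (omegaGL (quadFormMinus l F (τ a) (τ b))) P := by
      refine cjOf_of (mem_omega_iff'' hG) (map_omega_glm τ fun v => ?_) hθ
      rw [coe_minusForm]
      exact quadFormMinus_map τ a b v
    have hab' : ∀ z₁ z₂ : F, z₁ ^ 2 + τ a * z₁ * z₂ + τ b * z₂ ^ 2 = 0 → z₁ = 0 ∧ z₂ = 0 := by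
      intro z₁ z₂ hz
      obtain ⟨z₁, rfl⟩ := τ.surjective z₁
      obtain ⟨z₂, rfl⟩ := τ.surjective z₂
      rw [← map_pow, ← map_pow, ← map_mul, ← map_mul, ← map_mul, ← map_add, ← map_add] at hz
      obtain ⟨h1, h2⟩ := hab _ _ ((map_eq_zero τ).1 hz)
      rw [h1, h2, map_zero]
      exact ⟨rfl, rfl⟩
    have hnd : IsNondegenerateQuadraticForm (quadFormMinus l F (τ a) (τ b)) := by
      rw [← coe_minusForm]
      exact H925.isND_of_nondeg (nondeg_minusForm l F (τ a) (τ b) hab')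
    obtain ⟨Q₁, hQ₁, hP, -⟩ := hcj.omega_form hnd
    exact ⟨Q₁, hQ₁, hP⟩
  -- the first node
  have hfirst : (∀ i : Fin l, 1 ≤ (i : ℕ) → i ∈ JB (MM hab hG) p f φ) →
      (⟨0, by omega⟩ : Fin l) ∉ JB (MM hab hG) p f φ := by
    intro hJ
    obtain ⟨i, hi⟩ := exists_node hC C hT
    have h3 : i = ⟨0, by omega⟩ := by
      by_contra h0
      refine hi (hJ i ?_)
      by_contra h1
      exact h0 (Fin.ext (by simp only; omega))
    rwa [← h3]
  -- one node `≥ 1` outside `J`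
  by_cases hJ : ∀ i : Fin l, 1 ≤ (i : ℕ) → i ∈ JB (MM hab hG) p f φ
  swap
  · right
    refine ⟨j, hjK, ?_⟩
    push Not at hJ
    obtain ⟨i, hi1, hiJ⟩ := hJ
    rcases (show (i : ℕ) + 1 = l ∨ (i : ℕ) + 1 < l by omega) with hi | hi
    · exact hnl i hi hiJ
    obtain ⟨σ, N⟩ := hlong i hi
    rcases Nat.even_or_odd' j with ⟨j', hj' | hj'⟩
    · -- `|K| = |F| ^ j'`
      subst hj'
      have hj1 : 1 ≤ j' := by omega
      have hfa : (f₀ : ℕ) = a₀ * j' := by
        have h1 : (a₀ : ℕ) * (2 * j') = a₀ * j' * 2 := by ring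
        omega
      have hKF : Nat.card K = Nat.card F ^ j' := by rw [hf₀, ha₀, ← pow_mul, hfa]
      have hedge := edge_pow_B hC C hT hiJ N hKF
      rcases Nat.lt_or_ge 3 l with hl4 | hl3'
      · exact hR.mid hl4 hj1 hedge (by omega) hi (bound_all hC C hT hiJ) le_rfl
      · obtain rfl : l = 3 := by omega
        obtain rfl : i = 1 := by
          apply Fin.ext
          change (i : ℕ) = 1
          omega
        rcases Nat.lt_or_ge 1 j' with hj2 | hj2
        · obtain ⟨ε, hε, h3⟩ := bound_mid hC C hT hiJ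
          exact hR.three rfl hj2 hedge hε h3 le_rfl
        · obtain rfl : j' = 1 := by omega
          obtain ⟨E, i1, i2, i3, σ, h1, N⟩ := hlast 2 rfl
          exact hR.three_one rfl (bound_levi hC C hT hiJ N ha₀ h1)
    · -- `|K| ^ 2 = |F| ^ j`, `j` odd
      obtain ⟨a₁, ha₁⟩ : ∃ a₁, (a₀ : ℕ) = 2 * a₁ := by
        have h1 : Even ((a₀ : ℕ) * j) := by
          rw [haj, mul_comm]
          exact even_two_mul _
        rcases Nat.even_mul.1 h1 with ⟨x, hx⟩ | ⟨x, hx⟩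
        · exact ⟨x, by omega⟩
        · omega
      have hf₁ : (f₀ : ℕ) = a₁ * j := by
        have h1 : 2 * (a₁ * j) = f₀ * 2 := by rw [← haj, ha₁]; ring
        omega
      have hgcd : j * Nat.gcd a₀ f₀ = f₀ := by
        have h1 : Nat.gcd 2 j = 1 := by
          rw [hj']
          exact (Nat.coprime_two_left).2 ⟨j', rfl⟩
        rw [ha₁, hf₁, mul_comm 2 a₁, Nat.gcd_mul_left, h1, mul_one, mul_comm]
      have hedge := edge_pow_B' hC C hT hiJ N ha₀ hf₀ hgcd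
      rcases Nat.lt_or_ge 3 l with hl4 | hl3'
      · exact hR.mid hl4 hj hedge (by omega) hi (bound_all hC C hT hiJ) (by omega)
      · obtain rfl : l = 3 := by omega
        obtain rfl : i = 1 := by
          apply Fin.ext
          change (i : ℕ) = 1
          omega
        rcases Nat.lt_or_ge 1 j with hj2 | hj2
        · obtain ⟨ε, hε, h3⟩ := bound_mid hC C hT hiJ
          exact hR.three rfl hj2 hedge hε h3 (by omega)
        · obtain rfl : j = 1 := by omega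
          exact hR.three_half rfl
  -- only the first node
  have ho := hfirst hJ
  obtain ⟨ε, hε, h3⟩ := bound_first hC C hT (by omega) rfl ho
  obtain ⟨σ, N⟩ := hlong ⟨0, by omega⟩ (by simp only; omega)
  rcases Nat.even_or_odd' j with ⟨j', hj' | hj'⟩
  · subst hj'
    have hj1 : 1 ≤ j' := by omega
    have hfa : (f₀ : ℕ) = a₀ * j' := by
      have h1 : (a₀ : ℕ) * (2 * j') = a₀ * j' * 2 := by ring
      omega
    have hKF : Nat.card K = Nat.card F ^ j' := by rw [hf₀, ha₀, ← pow_mul, hfa]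
    have hedge := edge_pow_B hC C hT ho N hKF
    rcases hR.first (j := 2 * j') hj1 hedge hε h3 le_rfl with ⟨-, hd2⟩ | hb
    · exact Or.inl (hid hJ hd2)
    · exact Or.inr ⟨_, hjK, hb⟩
  · obtain ⟨a₁, ha₁⟩ : ∃ a₁, (a₀ : ℕ) = 2 * a₁ := by
      have h1 : Even ((a₀ : ℕ) * j) := by
        rw [haj, mul_comm]
        exact even_two_mul _
      rcases Nat.even_mul.1 h1 with ⟨x, hx⟩ | ⟨x, hx⟩
      · exact ⟨x, by omega⟩
      · omega
    have hf₁ : (f₀ : ℕ) = a₁ * j := by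
      have h1 : 2 * (a₁ * j) = f₀ * 2 := by rw [← haj, ha₁]; ring
      omega
    have hgcd : j * Nat.gcd a₀ f₀ = f₀ := by
      have h1 : Nat.gcd 2 j = 1 := by
        rw [hj']
        exact (Nat.coprime_two_left).2 ⟨j', rfl⟩
      rw [ha₁, hf₁, mul_comm 2 a₁, Nat.gcd_mul_left, h1, mul_one, mul_comm]
    have hedge := edge_pow_B' hC C hT ho N ha₀ hf₀ hgcd
    rcases hR.first (j := j) hj hedge hε h3 (by omega) with ⟨-, hd2⟩ | hb
    · exact Or.inl (hid hJ hd2)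
    · exact Or.inr ⟨_, hjK, hb⟩

end core


/-- the order of the automorphism group, `|K| = 2` -/
theorem aut_minus_two {K : Type} [Field K] [Fintype K] (hK : Fintype.card K = 2) {l : ℕ} (hl : 3 ≤ l) {a b : K}
    (hab : ∀ z₁ z₂ : K, z₁ ^ 2 + a * z₁ * z₂ + b * z₂ ^ 2 = 0 → z₁ = 0 ∧ z₂ = 0) :
    Nat.card (MulAut (Cfsg.POmega K (Cfsg.quadFormMinus l K a b))) ≤ 2 ^ (2 * l ^ 2 + 3 * l + 3) := by
  have := Cfsg.Agent.H12.EP.BT.charP_two hK
  have h1 := Cfsg.Agent.S0818.result (F := K) 2 1 le_rfl (by rw [hK, pow_one]) (l + 1) (by omega) a b hab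
  have h2 := Cfsg.Agent.S0294.result (F := K) rfl (l + 1) (by omega) a b hab
  have el : l + 1 - 1 = l := rfl
  rw [el] at h1 h2
  rw [hK] at h2
  rw [h1, if_pos rfl, mul_one]
  set N := Nat.card (Cfsg.POmega K (Cfsg.quadFormMinus l K a b)) with hN
  have hT : N ≤ 2 * 2 ^ (2 * l ^ 2 + 3 * l + 1) := by
    calc N ≤ Nat.gcd 4 (2 ^ (l + 1) + 1) * N := Nat.le_mul_of_pos_left N (Nat.gcd_pos_of_pos_left _ (by norm_num))
      _ = 2 ^ ((l + 1) * l) * (2 ^ (l + 1) + 1) * ∏ i ∈ Finset.range l, (2 ^ (2 * (i + 1)) - 1) := h2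
      _ ≤ 2 ^ ((l + 1) * l) * (2 * 2 ^ (l + 1)) * 2 ^ (l * (l + 1)) := by
          refine Nat.mul_le_mul (Nat.mul_le_mul_left _ ?_) (prod_le 2 l)
          have := Nat.one_le_pow (l + 1) 2 (by norm_num)
          omega
      _ = 2 * 2 ^ (2 * l ^ 2 + 3 * l + 1) := by
          have e : 2 * l ^ 2 + 3 * l + 1 = (l + 1) * l + (l + 1) + l * (l + 1) := by ring
          rw [e, pow_add, pow_add]
          ring
  calc 2 * N ≤ 2 * (2 * 2 ^ (2 * l ^ 2 + 3 * l + 1)) := Nat.mul_le_mul_left _ hT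
    _ = 2 ^ (2 * l ^ 2 + 3 * l + 3) := by
      rw [← pow_succ', ← pow_succ']

/-- the final count: `|F| = q`, `q ^ j = 4` -/
theorem count_two {q j l N n A : ℕ} (hq : 2 ≤ q) (hj : q ^ j = 4) (ho : q ^ (n * (n - 1) / 2) ≤ 8 * N)
    {c : ℕ} (hUB : 10000 * N ≤ A ^ (4 + c) * 14) (hA : A ≤ 2 ^ (2 * l ^ 2 + 3 * l + 3))
    (hb : j * ((4 + c) * (2 * l ^ 2 + 3 * l + 3)) < n * (n - 1) + 6 * j) : False := by
  have h1 : 64 * q ^ (n * (n - 1) / 2) ≤ 2 ^ ((4 + c) * (2 * l ^ 2 + 3 * l + 3)) := by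
    have h2 : A ^ (4 + c) ≤ 2 ^ ((4 + c) * (2 * l ^ 2 + 3 * l + 3)) := by
      rw [mul_comm, pow_mul]
      exact Nat.pow_le_pow_left hA _
    generalize A ^ (4 + c) = X at *
    generalize 2 ^ ((4 + c) * (2 * l ^ 2 + 3 * l + 3)) = Y at *
    generalize q ^ (n * (n - 1) / 2) = Z at *
    omega
  have h2 : (q ^ (n * (n - 1) / 2)) ^ 2 = q ^ (n * (n - 1)) := by
    rw [← pow_mul, Nat.div_mul_cancel (Nat.even_mul_pred_self n).two_dvd]
  have h3 : (64 * q ^ (n * (n - 1) / 2)) ^ 2 = q ^ (n * (n - 1) + 6 * j) := by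
    rw [mul_pow, h2, pow_add, mul_comm 6 j, pow_mul q j 6, hj]
    ring
  have h4 : (2 ^ ((4 + c) * (2 * l ^ 2 + 3 * l + 3))) ^ 2 = q ^ (j * ((4 + c) * (2 * l ^ 2 + 3 * l + 3))) := by
    rw [pow_mul q j, hj]
    generalize (4 + c) * (2 * l ^ 2 + 3 * l + 3) = E
    rw [← pow_mul, mul_comm, pow_mul]
    norm_num
  have h5 := Nat.pow_le_pow_left h1 2
  rw [h3, h4] at h5
  have h6 := Nat.pow_lt_pow_right (a := q) (by omega) hb
  omega

section final

open Cfsg.Agent.H419.EP Cfsg.Agent.H59.EP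

variable {Q : Type} [Group Q] [Finite Q] {A : Subgroup Q} {Γ : Subgroup (MulAut Q)} {ι : Type} [Fintype ι]
    [DecidableEq ι] {F : Type} [Field F] [Fintype F] {S P : Subgroup (GL ι F)}

/-- **S3499-VII13-PMinus over the field with two elements.** -/
theorem own_pminus_two (hg : TwoGen.{0}) (x : Big A Γ S P) (K : Type) [Field K] [Fintype K] (hK2 : Fintype.card K = 2)
    (d : ℕ) (hc : ringChar F = ringChar K) (a b : K) (hd : 4 ≤ d)
    (hab : ∀ z₁ z₂ : K, z₁ ^ 2 + a * z₁ * z₂ + b * z₂ ^ 2 = 0 → z₁ = 0 ∧ z₂ = 0)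
    (hS : Nonempty (socle P ≃* Cfsg.POmega K (Cfsg.quadFormMinus (d - 1) K a b))) : False := by
  obtain ⟨e⟩ := hS
  have hC : Core P := core_of_residual x.core
  have hK : CharP K (ringChar F) := by
    rw [hc]
    exact ringChar.charP K
  have hF : CharP F (ringChar F) := ringChar.charP F
  have hp : Fact (ringChar F).Prime := ⟨CharP.char_is_prime F _⟩
  have hn := x.thirteen
  rcases core_pminus_gen (ringChar F) hC (l := d - 1) (by omega) a b hab e _
    (rules_two (by omega) hn) with ⟨Q₁, h1, h2⟩ | ⟨j, hj, hb⟩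
  · exact no_omega x h1 h2
  · have hfin : Finite (POmega K (quadFormMinus (d - 1) K a b)) := inferInstance
    have h1 := (x.hasSoc' e).card_le
    have h2 := h1.trans (aut_minus_two hK2 (by omega) hab)
    rw [Nat.card_eq_fintype_card, Nat.card_eq_fintype_card, hK2] at hj
    have hj4 : Fintype.card F ^ j = 4 := hj
    have hj2 : j ≤ 2 := by
      by_contra h3
      have h4 : 2 ^ 3 ≤ Fintype.card F ^ j :=
        (Nat.pow_le_pow_right (by norm_num) (by omega)).trans (Nat.pow_le_pow_left x.two_le j)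
      omega
    obtain ⟨c, hc1, hc2, hc3⟩ := hb hj2
    have hL : IsSimpleGroup (POmega K (quadFormMinus (d - 1) K a b)) := by
      have := hC.simple
      exact e.symm.isSimpleGroup
    have hLn : ¬ ∀ x y : POmega K (quadFormMinus (d - 1) K a b), x * y = y * x := by
      intro hcomm
      apply hC.nonabelian
      refine ⟨⟨fun x y => ?_⟩⟩
      apply e.injective
      rw [map_mul, map_mul, hcomm]
    have el : d - 1 + 1 = d := by omega
    have hUB := Cfsg.Agent.H12.EP.BT.ub_minus_two x.simple x.ept hg hK2 hd hab (x.hasSoc' e) hL hLn hc1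
      (by rw [el] at hc2; exact hc2)
    exact count_two x.two_le hj4 x.ord hUB h2 hc3

/-- **S3499-VII13-PMinus**, from the chain theorem. -/
theorem own_pminus_all (hg : TwoGen.{0}) (x : Big A Γ S P)
    (hO : ∀ {l : ℕ} {M : CoxeterMatrix (Fin l)} {q : Fin l → ℕ}, H50.Her.HasPan (ringChar F) M q (socle P) →
      (∀ i, 3 ≤ q i) → 3 ≤ l → False)
    (K : Type) [Field K] [Fintype K] (d : ℕ)
    (hc : ringChar F = ringChar K) (a b : K) (hd : 4 ≤ d)
    (hab : ∀ z₁ z₂ : K, z₁ ^ 2 + a * z₁ * z₂ + b * z₂ ^ 2 = 0 → z₁ = 0 ∧ z₂ = 0)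
    (hS : Nonempty (socle P ≃* Cfsg.POmega K (Cfsg.quadFormMinus (d - 1) K a b))) : False := by
  have h1 : 1 < Fintype.card K := Fintype.one_lt_card
  rcases (show Fintype.card K = 2 ∨ 3 ≤ Fintype.card K by omega) with h2 | h3
  · exact own_pminus_two hg x K h2 d hc a b hd hab hS
  · refine hO (pan_pminus K d hc a b hd hab hS) (fun i => ?_) (by omega)
    rw [Nat.card_eq_fintype_card]
    split_ifs
    · exact h3
    · nlinarith

end final

end Cfsg.Agent.H274.EPO
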